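import Mathlib
import Cfsg.Agent.Lib.Sporadic.J2.SpecCheck
import Cfsg.Agent.Lib.Sporadic.J2.Data5

/-!
# The kernel checks for the outer automorphism group of the group of the 315 lines
-/

set_option autoImplicit false

namespace Cfsg.Agent.Lib.Sporadic.J2.OutCheck

open Cfsg.Agent.Lib.Compute.PermCert Cfsg.Agent.Lib.Compute.PermSimple
open Cfsg.Agent.Lib.Sporadic.J2.Data3 Cfsg.Agent.Lib.Sporadic.J2.Data5 Cfsg.Agent.Lib.Sporadic.J2.SpecCheck

/-- The table of an element. -/
abbrev gt (e : Elt) (x : Nat) : Nat := get 9 511 e.f x
/-- The inverse table of an element. -/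
abbrev gi (e : Elt) (x : Nat) : Nat := get 9 511 e.g x

/-- The conjugate of the reflection by `e`. -/
def sF (e : Elt) : Nat → Nat := fun x => gt e (gt yE (gi e x))

/-- The order of the element is at most five (the elements are in the group). -/
def smallOrd (c : Nat → Nat) : Bool := powFix c 3 || powFix c 4 || powFix c 5

/-- The products of two reflections have small orders. -/
def yGood : Bool := lv0.trans.all fun e => smallOrd (fun x => gt yE (sF e.u x))

/-- The entries of the centers. -/
def centersE : List TEntry := centers.filterMap (fun q => findPt q lv0.trans)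

/-- The entries of the witnesses. -/
def witsE : List TEntry := witPts.filterMap (fun q => findPt q lv0.trans)

/-- An element of the stabilizer of the first point which is not an involution, or is trivial, or is a reflection,
or has a conjugate with a product of large order with it. -/
def invOK (c : Nat → Nat) : Bool :=
  !(powFix c 2) || powFix c 1 || centersE.any (fun e => powFix (fun x => c (sF e.u x)) 1) ||
    witsE.any (fun g => !smallOrd (fun x => c (gt g.u (c (gi g.u x)))))

/-- The check of all the elements of the stabilizer. -/
def classCheck : Bool :=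
  lv1.trans.all fun e1 => lv2.trans.all fun e2 => invOK (fun x => gt e1.u (gt e2.u x))

/-- A letter of a word in `piE`, `rhoE` and the function `y`. -/
def letter (y : Nat → Nat) (c x : Nat) : Nat :=
  bif Nat.beq c 0 then gt piE x else bif Nat.beq c 1 then gt rhoE x else y x

/-- A word in `piE`, `rhoE` and the function `y`. -/
def wFn (y : Nat → Nat) : List Nat → Nat → Nat
  | [], x => x
  | c :: w, x => letter y c (wFn y w x)

/-- A reflection which is not the first one or its image under `tE` is excluded by a word. -/
def killOK (e : TEntry) : Bool :=
  Nat.beq e.pt 0 || Nat.beq e.pt 181 || kills.any (fun wm => !(powFix (wFn (sF e.u) wm.1) wm.2))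

theorem valid_pi : validB 9 511 315 piE = true := by decide +kernel
theorem valid_rho : validB 9 511 315 rhoE = true := by decide +kernel
theorem valid_t : validB 9 511 315 tE = true := by decide +kernel
theorem valid_y : validB 9 511 315 yE = true := by decide +kernel
theorem sift_pi : sift 9 511 315 [lv0, lv1, lv2] (gt piE) = true := by decide +kernel
theorem sift_rho : sift 9 511 315 [lv0, lv1, lv2] (gt rhoE) = true := by decide +kernel
theorem sift_y : sift 9 511 315 [lv0, lv1, lv2] (gt yE) = true := by decide +kernel
theorem sift_t : sift 9 511 315 [lv0, lv1, lv2] (gt tE) = false := by decide +kernel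
theorem pi_seven : allB (fun i => Nat.beq ((gt piE)^[7] i) i) 315 = true := by decide +kernel
theorem pi_ne : gt piE 0 = 0 → False := by decide +kernel
theorem rho_rel : allB (fun i => Nat.beq (gt rhoE (gt piE i)) (gt piE (gt piE (gt piE (gt rhoE i))))) 315 = true := by
  decide +kernel
theorem t_inv : allB (fun i => Nat.beq (gt tE (gt tE i)) i) 315 = true := by decide +kernel
theorem y_inv : allB (fun i => Nat.beq (gt yE (gt yE i)) i) 315 = true := by decide +kernel
theorem t_pi : allB (fun i => Nat.beq (gt tE (gt piE i)) (gt piE (gt tE i))) 315 = true := by decide +kernel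
theorem t_rho : allB (fun i => Nat.beq (gt tE (gt rhoE i)) (gt rhoE (gt tE i))) 315 = true := by decide +kernel
theorem t_norm : lv0.gens.all (fun g => sift 9 511 315 [lv0, lv1, lv2] (fun i => gt tE (gt g (gt tE i)))) = true := by
  decide +kernel
theorem y_central : lv1.gens.all (fun g => allB (fun i => Nat.beq (gt yE (gt g i)) (gt g (gt yE i))) 315) = true := by
  decide +kernel
theorem h1_fix : allB (fun i => Nat.beq i 0 || lv1.gens.any (fun g => !(Nat.beq (gt g i) i))) 315 = true := by
  decide +kernel
theorem gens_words : lv0.gens.all (fun g => genWords.any (fun u => wordCheck 9 511 315 [piE, rhoE, yE] u g)) = true := by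
  decide +kernel
theorem t_conj : lv0.trans.all (fun e => !(Nat.beq e.pt 181) ||
    allB (fun i => Nat.beq (gt tE (gt yE (gt tE i))) (sF e.u i)) 315) = true := by decide +kernel
theorem y_good : yGood = true := by decide +kernel
theorem class_ok : classCheck = true := by decide +kernel
theorem kill_ok : lv0.trans.all killOK = true := by decide +kernel
theorem kill_fwd : kills.all (fun wm => powFix (wFn (gt yE) wm.1) wm.2) = true := by decide +kernel

end Cfsg.Agent.Lib.Sporadic.J2.OutCheck
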