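import Mathlib
import Cfsg.Agent.Lib.Sporadic.J2.SpecJ2
import Cfsg.Agent.Lib.Sporadic.J2.OutCheck
import Cfsg.Agent.Lib.Compute.PermOut

/-!
# The outer automorphism group of the Hall-Janko group
-/

set_option autoImplicit false
set_option maxRecDepth 100000

namespace Cfsg.Agent.Lib.Sporadic.J2.Out

open Cfsg Cfsg.Spor Data3 Data5 ChainCheck SpecCheck Spec Group SpecJ2 OutCheck
open Cfsg.Agent.Lib.Compute.PermCert Cfsg.Agent.Lib.Compute.PermSimple
open Cfsg.Agent.Lib.Compute.OutCert Cfsg.Agent.Lib.Compute.PermOut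

/-- The permutations. -/
abbrev Pm := Equiv.Perm (Fin 315)

/-- An element of order 7. -/
def Pp : Pm := permOf 9 511 315 piE
/-- An element normalising the element of order 7. -/
def Rr : Pm := permOf 9 511 315 rhoE
/-- The twisting involution. -/
def Tt : Pm := permOf 9 511 315 tE
/-- The reflection. -/
def Yy : Pm := permOf 9 511 315 yE

theorem fn_p (i : Fin 315) : gt piE i = Pp i := (permOf_apply valid_pi i).symm
theorem fn_r (i : Fin 315) : gt rhoE i = Rr i := (permOf_apply valid_rho i).symm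
theorem fn_t (i : Fin 315) : gt tE i = Tt i := (permOf_apply valid_t i).symm
theorem fn_y (i : Fin 315) : gt yE i = Yy i := (permOf_apply valid_y i).symm

theorem Pp_mem : Pp ∈ J315 := (sift_iff chain_ok _ _ fn_p).mpr sift_pi
theorem Rr_mem : Rr ∈ J315 := (sift_iff chain_ok _ _ fn_r).mpr sift_rho
theorem Yy_mem : Yy ∈ J315 := (sift_iff chain_ok _ _ fn_y).mpr sift_y
theorem Tt_not_mem : Tt ∉ J315 := fun h => by
  have := (sift_iff chain_ok _ _ fn_t).mp h
  rw [sift_t] at this
  exact absurd this (by decide)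

theorem eq_of_allB {X Y : Pm} {f g : Nat → Nat} (hf : ∀ i : Fin 315, f i = X i) (hg : ∀ i : Fin 315, g i = Y i)
    (h : allB (fun i => Nat.beq (f i) (g i)) 315 = true) : X = Y := by
  ext i
  rw [← hf, ← hg]
  exact Nat.eq_of_beq_eq_true ((allB_iff _ _).mp h i i.2)

theorem Pp_pow : Pp ^ 7 = 1 := by
  ext i
  rw [Pp, permOf_pow_apply valid_pi]
  exact Nat.eq_of_beq_eq_true ((allB_iff _ _).mp pi_seven i i.2)

theorem Pp_ne : Pp ≠ 1 := by
  intro h
  have h1 := fn_p ⟨0, by norm_num⟩
  rw [h] at h1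
  exact pi_ne h1

theorem Pp_order : orderOf Pp = 7 := by
  haveI : Fact (Nat.Prime 7) := ⟨by norm_num⟩
  exact orderOf_eq_prime Pp_pow Pp_ne

theorem Rr_rel : Rr * Pp = Pp ^ 3 * Rr := by
  refine eq_of_allB (fun i => ?_) (fun i => ?_) rho_rel
  · rw [Equiv.Perm.mul_apply, ← fn_r, ← fn_p]
  · have : (Pp ^ 3 * Rr) i = Pp (Pp (Pp (Rr i))) := by
      rw [pow_succ, pow_succ, pow_one]
      rfl
    rw [this, ← fn_p, ← fn_p, ← fn_p, ← fn_r]

theorem Tt_sq : Tt * Tt = 1 := by
  refine eq_of_allB (fun i => ?_) (fun i => rfl) t_inv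
  rw [Equiv.Perm.mul_apply, ← fn_t, ← fn_t]

theorem Tt_inv : Tt⁻¹ = Tt := inv_eq_of_mul_eq_one_left Tt_sq

theorem Yy_sq : Yy * Yy = 1 := by
  refine eq_of_allB (fun i => ?_) (fun i => rfl) y_inv
  rw [Equiv.Perm.mul_apply, ← fn_y, ← fn_y]

theorem Yy_inv : Yy⁻¹ = Yy := inv_eq_of_mul_eq_one_left Yy_sq

theorem Tt_Pp : Tt * Pp = Pp * Tt := by
  refine eq_of_allB (fun i => ?_) (fun i => ?_) t_pi
  · rw [Equiv.Perm.mul_apply, ← fn_t, ← fn_p]
  · rw [Equiv.Perm.mul_apply, ← fn_p, ← fn_t]

theorem Tt_Rr : Tt * Rr = Rr * Tt := by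
  refine eq_of_allB (fun i => ?_) (fun i => ?_) t_rho
  · rw [Equiv.Perm.mul_apply, ← fn_t, ← fn_r]
  · rw [Equiv.Perm.mul_apply, ← fn_r, ← fn_t]

/-- The conjugation by `Tt` preserves the group. -/
theorem Tt_norm : ∀ x ∈ J315, Tt * x * Tt⁻¹ ∈ J315 := by
  have hg : lv0.gens.all (validB 9 511 315) = true := lv0_facts.gens_valid
  have hle : J315 ≤ (J315).comap (MulAut.conj Tt).toMonoidHom := by
    refine (Subgroup.closure_le _).mpr ?_
    rintro _ ⟨e, he, rfl⟩
    have he' : e ∈ lv0.gens := he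
    have h1 := t_norm
    rw [List.all_eq_true] at h1
    have h2 := h1 e he'
    have hv : validB 9 511 315 e = true := by
      rw [List.all_eq_true] at hg
      exact hg e he'
    refine (sift_iff chain_ok _ _ (fun i => ?_)).mpr h2
    have e1 : ((MulAut.conj Tt).toMonoidHom (permOf 9 511 315 e)) i = Tt (permOf 9 511 315 e (Tt i)) := by
      simp [MulAut.conj_apply, Tt_inv]
    have fn_e : ∀ i : Fin 315, gt e i = permOf 9 511 315 e i := fun i => (permOf_apply hv i).symm
    rw [e1, ← fn_t, ← fn_e, ← fn_t]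
  intro x hx
  have := hle hx
  simpa [MulAut.conj_apply] using this

theorem Tt_norm' : ∀ x ∈ J315, Tt⁻¹ * x * Tt ∈ J315 := by
  intro x hx
  have := Tt_norm x hx
  rwa [Tt_inv] at this ⊢

/-! ### The reflection is central in the stabiliser -/

theorem Yy_comm {h : Pm} (hh : h ∈ H1) : h * Yy = Yy * h := by
  have hg : lv1.gens.all (validB 9 511 315) = true := lv1_facts.gens_valid
  have key : ∀ x ∈ Subgroup.closure {x | ∃ e ∈ lv1.gens, permOf 9 511 315 e = x}, Commute x Yy := by
    intro x hx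
    induction hx using Subgroup.closure_induction with
    | mem x hx =>
      obtain ⟨e, he, rfl⟩ := hx
      have h1 := y_central
      rw [List.all_eq_true] at h1
      have h2 := h1 e he
      have hv : validB 9 511 315 e = true := by
        rw [List.all_eq_true] at hg
        exact hg e he
      have fn_e : ∀ i : Fin 315, gt e i = permOf 9 511 315 e i := fun i => (permOf_apply hv i).symm
      symm
      refine eq_of_allB (fun i => ?_) (fun i => ?_) h2
      · rw [Equiv.Perm.mul_apply, ← fn_y, ← fn_e]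
      · rw [Equiv.Perm.mul_apply, ← fn_e, ← fn_y]
    | one => exact Commute.one_left _
    | mul x y _ _ hx hy => exact hx.mul_left hy
    | inv x _ hx => exact hx.inv_left
  exact key h hh

/-- The permutation of an entry. -/
abbrev Ee (e : TEntry) : Pm := permOf 9 511 315 e.u

/-- Conjugates of the reflection are given by the transversal. -/
theorem conj_entry {g : Pm} (hg : g ∈ J315) : ∃ e ∈ lv0.trans, (e.pt : Nat) = g ⟨0, by norm_num⟩ ∧
    g * Yy * g⁻¹ = Ee e * Yy * (Ee e)⁻¹ := by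
  obtain ⟨e, he, hpt, hk⟩ := chain_orbit chain_ok b0 hg
  refine ⟨e, he, hpt.symm, ?_⟩
  have hc := Yy_comm hk
  have : g = Ee e * ((Ee e)⁻¹ * g) := by group
  set k := (Ee e)⁻¹ * g with hkdef
  rw [this, mul_inv_rev, mul_assoc (Ee e), mul_assoc (Ee e), hc]
  group

theorem entry_mem {e : TEntry} (he : e ∈ lv0.trans) : Ee e ∈ J315 := lv0_facts.trans_mem e he

theorem entry_valid {e : TEntry} (he : e ∈ lv0.trans) : validB 9 511 315 e.u = true := lv0_facts.trans_valid e he

theorem fn_s {e : TEntry} (he : e ∈ lv0.trans) (i : Fin 315) : sF e.u i = (Ee e * Yy * (Ee e)⁻¹) i := by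
  have hv := entry_valid he
  simp only [Equiv.Perm.mul_apply]
  have h1 : gi e.u i = ((Ee e)⁻¹ i : Fin 315) := (permOf_symm_apply hv i).symm
  have h2 : ∀ j : Fin 315, gt e.u j = Ee e j := fun j => (permOf_apply hv j).symm
  rw [sF, ← h2, ← fn_y, ← h1]

/-! ### Powers of elements and the base -/

theorem powFix_complete {C : Pm} {c : Nat → Nat} (h : ∀ i : Fin 315, c i = C i) {k : ℕ} (hk : C ^ k = 1) :
    powFix c k = true := by
  unfold powFix
  have h0 := fn_iterate h k ⟨0, by norm_num⟩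
  have h1 := fn_iterate h k ⟨251, by norm_num⟩
  have h2 := fn_iterate h k ⟨92, by norm_num⟩
  rw [hk] at h0 h1 h2
  simp only [Equiv.Perm.coe_one, id_eq] at h0 h1 h2
  simp only [Bool.and_eq_true, Nat.beq_eq]
  exact ⟨⟨h0.symm, h1.symm⟩, h2.symm⟩

theorem smallOrd_sound {C : Pm} (hC : C ∈ J315) {c : Nat → Nat} (h : ∀ i : Fin 315, c i = C i)
    (hs : smallOrd c = true) : C ^ 3 = 1 ∨ C ^ 4 = 1 ∨ C ^ 5 = 1 := by
  unfold smallOrd at hs
  simp only [Bool.or_eq_true] at hs
  rcases hs with (h3 | h4) | h5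
  · exact Or.inl (powFix_one hC h h3)
  · exact Or.inr (Or.inl (powFix_one hC h h4))
  · exact Or.inr (Or.inr (powFix_one hC h h5))

theorem smallOrd_complete {C : Pm} {c : Nat → Nat} (h : ∀ i : Fin 315, c i = C i)
    (hs : C ^ 3 = 1 ∨ C ^ 4 = 1 ∨ C ^ 5 = 1) : smallOrd c = true := by
  unfold smallOrd
  simp only [Bool.or_eq_true]
  rcases hs with h3 | h4 | h5
  · exact Or.inl (Or.inl (powFix_complete h h3))
  · exact Or.inl (Or.inr (powFix_complete h h4))
  · exact Or.inr (powFix_complete h h5)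

/-! ### The invariant property of reflections -/

/-- The products of an element with its conjugates have small order. -/
def Good (z : Pm) : Prop :=
  ∀ g ∈ J315, (z * (g * z * g⁻¹)) ^ 3 = 1 ∨ (z * (g * z * g⁻¹)) ^ 4 = 1 ∨ (z * (g * z * g⁻¹)) ^ 5 = 1

theorem good_y : Good Yy := by
  intro g hg
  obtain ⟨e, he, -, hge⟩ := conj_entry hg
  rw [hge]
  have h1 := y_good
  unfold yGood at h1
  rw [List.all_eq_true] at h1
  refine smallOrd_sound (J315.mul_mem Yy_mem (J315.mul_mem (J315.mul_mem (entry_mem he) Yy_mem)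
    (J315.inv_mem (entry_mem he)))) (fun i => ?_) (h1 e he)
  rw [Equiv.Perm.mul_apply, ← fn_y, ← fn_s he]

theorem good_conj {z u : Pm} (hz : Good z) (hu : u ∈ J315) : Good (u * z * u⁻¹) := by
  intro g hg
  have hg' : u⁻¹ * g * u ∈ J315 := J315.mul_mem (J315.mul_mem (J315.inv_mem hu) hg) hu
  have e1 : u * z * u⁻¹ * (g * (u * z * u⁻¹) * g⁻¹) =
      u * (z * ((u⁻¹ * g * u) * z * (u⁻¹ * g * u)⁻¹)) * u⁻¹ := by group
  rw [e1, conj_pow, conj_pow, conj_pow]
  rcases hz _ hg' with h | h | h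
  · left; rw [h]; group
  · right; left; rw [h]; group
  · right; right; rw [h]; group

theorem good_map {F : Pm → Pm} (hF : PHom J315 F) {z : Pm} (hzm : z ∈ J315) (hz : Good z) : Good (F z) := by
  intro g hg
  obtain ⟨g', hg', rfl⟩ := pHom_surj hF hg
  have e1 : F z * (F g' * F z * (F g')⁻¹) = F (z * (g' * z * g'⁻¹)) := by
    have m1 : g' * z ∈ J315 := J315.mul_mem hg' hzm
    have m2 : g' * z * g'⁻¹ ∈ J315 := J315.mul_mem m1 (J315.inv_mem hg')
    rw [hF.mul _ hzm _ m2, hF.mul _ m1 _ (J315.inv_mem hg'), hF.mul _ hg' _ hzm, pHom_map_inv hF hg']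
  have hm : z * (g' * z * g'⁻¹) ∈ J315 := J315.mul_mem hzm (J315.mul_mem (J315.mul_mem hg' hzm) (J315.inv_mem hg'))
  rw [e1, ← hF.map_pow hm, ← hF.map_pow hm, ← hF.map_pow hm]
  rcases hz g' hg' with h | h | h
  · left; rw [h]; exact hF.map_one
  · right; left; rw [h]; exact hF.map_one
  · right; right; rw [h]; exact hF.map_one

/-! ### Elements with the invariant property -/

theorem exists_fixed {z : Pm} (h2 : z ^ 2 = 1) : ∃ p, z p = p := by
  classical
  by_contra hc
  push Not at hc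
  have h3 : z.support = Finset.univ := by
    ext i
    simp [hc i]
  have h4 := Equiv.Perm.two_dvd_card_support h2
  rw [h3] at h4
  simp at h4

/-- The classification of the elements with the invariant property. -/
theorem class_of_good {z : Pm} (hz : z ∈ J315) (h2 : z ^ 2 = 1) (h1 : z ≠ 1) (hg : Good z) :
    ∃ e ∈ lv0.trans, z = Ee e * Yy * (Ee e)⁻¹ := by
  obtain ⟨p, hp⟩ := exists_fixed h2
  set b : Fin 315 := ⟨lv0.base, b0⟩ with hb
  obtain ⟨u', hu'⟩ := MulAction.exists_smul_eq J315 p b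
  set u : Pm := u'.1 with hu
  have huJ : u ∈ J315 := u'.2
  have hup : u p = b := hu'
  set z' := u * z * u⁻¹ with hz'
  have hz'J : z' ∈ J315 := J315.mul_mem (J315.mul_mem huJ hz) (J315.inv_mem huJ)
  have hz'b : z' b = b := by
    have hinv : u⁻¹ b = p := by
      rw [Equiv.Perm.inv_eq_iff_eq, hup]
    simp only [hz', Equiv.Perm.mul_apply, hinv, hp, hup]
  have hz'1 : z' ∈ H1 := mem_H1 hz'J hz'b
  obtain ⟨e1, he1, e2, he2, hdec⟩ := H1_decomp hz'1
  have v1 := lv1_facts.trans_valid e1 he1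
  have v2 := lv2_facts.trans_valid e2 he2
  have hfn : ∀ i : Fin 315, gt e1.u (gt e2.u i) = z' i := by
    intro i
    rw [hdec, Equiv.Perm.mul_apply]
    have a1 : ∀ j : Fin 315, gt e2.u j = permOf 9 511 315 e2.u j := fun j => (permOf_apply v2 j).symm
    have a2 : ∀ j : Fin 315, gt e1.u j = permOf 9 511 315 e1.u j := fun j => (permOf_apply v1 j).symm
    rw [← a2, ← a1]
  have hc := class_ok
  unfold classCheck at hc
  rw [List.all_eq_true] at hc
  have hc1 := hc e1 he1
  rw [List.all_eq_true] at hc1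
  have hc2 := hc1 e2 he2
  unfold invOK at hc2
  simp only [Bool.or_eq_true, Bool.not_eq_true', List.any_eq_true] at hc2
  have hz'sq : z' ^ 2 = 1 := by
    rw [hz', conj_pow, h2]
    group
  have hz'ne : z' ≠ 1 := by
    intro h
    apply h1
    have : z = u⁻¹ * z' * u := by
      rw [hz']; group
    rw [this, h]
    group
  -- turning a statement on `z'` to a statement on `z`
  have finish : ∀ e ∈ lv0.trans, z' = Ee e * Yy * (Ee e)⁻¹ → ∃ e ∈ lv0.trans, z = Ee e * Yy * (Ee e)⁻¹ := by
    intro e he h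
    have hg' : u⁻¹ * Ee e ∈ J315 := J315.mul_mem (J315.inv_mem huJ) (entry_mem he)
    obtain ⟨e', he', -, hge⟩ := conj_entry hg'
    refine ⟨e', he', ?_⟩
    rw [← hge]
    have : z = u⁻¹ * z' * u := by
      rw [hz']; group
    rw [this, h]
    group
  rcases hc2 with ((h | h) | ⟨e, he, h⟩) | ⟨g, hgm, h⟩
  · rw [powFix_complete hfn hz'sq] at h
    exact absurd h (by decide)
  · exact absurd (by simpa using powFix_one hz'J hfn h) hz'ne
  · obtain ⟨q, -, hq⟩ := List.mem_filterMap.mp he
    have he0 := (findPt_some hq).1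
    refine finish e he0 ?_
    have hS : Ee e * Yy * (Ee e)⁻¹ ∈ J315 :=
      J315.mul_mem (J315.mul_mem (entry_mem he0) Yy_mem) (J315.inv_mem (entry_mem he0))
    have h3 : (z' * (Ee e * Yy * (Ee e)⁻¹)) ^ 1 = 1 := by
      refine powFix_one (J315.mul_mem hz'J hS) (fun i => ?_) h
      rw [Equiv.Perm.mul_apply, ← hfn]
      congr 2
      exact fn_s he0 i
    rw [pow_one] at h3
    have h4 : z' = (Ee e * Yy * (Ee e)⁻¹)⁻¹ := eq_inv_of_mul_eq_one_left h3
    rw [h4]
    simp only [mul_inv_rev, inv_inv, mul_assoc, Yy_inv]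
  · exfalso
    obtain ⟨q, -, hq⟩ := List.mem_filterMap.mp hgm
    have hg0 := (findPt_some hq).1
    have hgJ := entry_mem hg0
    have hgood := good_conj hg huJ (Ee g) hgJ
    have hgv := entry_valid hg0
    have a1 : ∀ j : Fin 315, gt g.u j = Ee g j := fun j => (permOf_apply hgv j).symm
    have a2 : ∀ j : Fin 315, gi g.u j = ((Ee g)⁻¹ j : Fin 315) := fun j => (permOf_symm_apply hgv j).symm
    have hcomp := smallOrd_complete (C := z' * (Ee g * z' * (Ee g)⁻¹))
      (c := fun x => gt e1.u (gt e2.u (gt g.u (gt e1.u (gt e2.u (gi g.u x)))))) (fun i => ?_) hgood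
    · rw [hcomp] at h
      exact absurd h (by decide)
    · simp only [Equiv.Perm.mul_apply]
      rw [← hfn, ← a1, ← hfn, ← a2]

/-! ### Words -/

/-- A letter. -/
def lPerm (Y : Pm) (c : Nat) : Pm := bif Nat.beq c 0 then Pp else bif Nat.beq c 1 then Rr else Y

/-- A word in `Pp`, `Rr`, `Y`. -/
def wPerm (Y : Pm) : List Nat → Pm
  | [] => 1
  | c :: w => lPerm Y c * wPerm Y w

theorem wFn_eq {y : Nat → Nat} {Y : Pm} (hy : ∀ i : Fin 315, y i = Y i) (w : List Nat) (i : Fin 315) :
    wFn y w i = wPerm Y w i := by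
  induction w with
  | nil => rfl
  | cons c w ih =>
    have h1 : wFn y (c :: w) i = letter y c (wFn y w i) := rfl
    rw [h1, ih, wPerm, Equiv.Perm.mul_apply]
    unfold letter lPerm
    cases h0 : Nat.beq c 0 with
    | true => simpa using fn_p _
    | false =>
      cases h2 : Nat.beq c 1 with
      | true => simpa using fn_r _
      | false => simpa using hy _

theorem wPerm_mem {Y : Pm} (hY : Y ∈ J315) (w : List Nat) : wPerm Y w ∈ J315 := by
  induction w with
  | nil => exact J315.one_mem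
  | cons c w ih =>
    refine J315.mul_mem ?_ ih
    unfold lPerm
    cases Nat.beq c 0 with
    | true => simpa using Pp_mem
    | false =>
      cases Nat.beq c 1 with
      | true => simpa using Rr_mem
      | false => simpa using hY

theorem map_wPerm {F : Pm → Pm} (hF : PHom J315 F) (hP : F Pp = Pp) (hR : F Rr = Rr) {Y : Pm} (hY : Y ∈ J315)
    (w : List Nat) : F (wPerm Y w) = wPerm (F Y) w := by
  induction w with
  | nil => exact hF.map_one
  | cons c w ih =>
    have hl : lPerm Y c ∈ J315 := by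
      unfold lPerm
      cases Nat.beq c 0 with
      | true => simpa using Pp_mem
      | false =>
        cases Nat.beq c 1 with
        | true => simpa using Rr_mem
        | false => simpa using hY
    rw [wPerm, hF.mul _ hl _ (wPerm_mem hY w), ih, wPerm]
    congr 1
    unfold lPerm
    cases Nat.beq c 0 with
    | true => simpa using hP
    | false =>
      cases Nat.beq c 1 with
      | true => simpa using hR
      | false => simp

/-! ### The final step -/

theorem fix_gens {F : Pm → Pm} (hF : PHom J315 F) (hP : F Pp = Pp) (hR : F Rr = Rr) (hY : F Yy = Yy) :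
    ∀ x ∈ J315, F x = x := by
  have hg : [piE, rhoE, yE].all (validB 9 511 315) = true := by
    simp only [List.all_cons, List.all_nil, valid_pi, valid_rho, valid_y, Bool.and_self]
  have hv0 : lv0.gens.all (validB 9 511 315) = true := lv0_facts.gens_valid
  refine eq_id_of_fix_gens hF (S := {x | ∃ e ∈ [piE, rhoE, yE], permOf 9 511 315 e = x}) ?_ ?_ ?_
  · refine (Subgroup.closure_le _).mpr ?_
    rintro _ ⟨e, he, rfl⟩
    have he' : e ∈ lv0.gens := he
    have h1 := gens_words
    rw [List.all_eq_true] at h1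
    have h2 := h1 e he'
    rw [List.any_eq_true] at h2
    obtain ⟨u, -, hu⟩ := h2
    rw [List.all_eq_true] at hv0
    exact wordCheck_mem hg (hv0 e he') hu
  · rintro _ ⟨e, he, rfl⟩
    simp only [List.mem_cons, List.not_mem_nil, or_false] at he
    rcases he with rfl | rfl | rfl
    · exact Pp_mem
    · exact Rr_mem
    · exact Yy_mem
  · rintro _ ⟨e, he, rfl⟩
    simp only [List.mem_cons, List.not_mem_nil, or_false] at he
    rcases he with rfl | rfl | rfl
    · exact hP
    · exact hR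
    · exact hY

theorem fin_step {F : Pm → Pm} (hF : PHom J315 F) (hP : F Pp = Pp) (hR : F Rr = Rr) :
    (∀ x ∈ J315, F x = x) ∨ (∀ x ∈ J315, Tt * F x * Tt⁻¹ = x) := by
  have hzJ : F Yy ∈ J315 := hF.mem _ Yy_mem
  have hsq : F Yy ^ 2 = 1 := by
    rw [← hF.map_pow Yy_mem, pow_two, Yy_sq, hF.map_one]
  have hne : F Yy ≠ 1 := by
    intro h
    have h1 := hF.inj _ Yy_mem h
    have h2 := fn_y ⟨3, by norm_num⟩
    rw [h1] at h2
    revert h2
    decide +kernel
  obtain ⟨e, he, hze⟩ := class_of_good hzJ hsq hne (good_map hF Yy_mem good_y)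
  have hk := kill_ok
  rw [List.all_eq_true] at hk
  have hk1 := hk e he
  unfold killOK at hk1
  simp only [Bool.or_eq_true, Nat.beq_eq, List.any_eq_true, Bool.not_eq_true'] at hk1
  have hEm := entry_mem he
  have hEv := entry_valid he
  have hpt : ((Ee e ⟨0, by norm_num⟩ : Fin 315) : Nat) = e.pt := by
    rw [permOf_apply hEv]
    exact lv0_facts.trans_pt e he
  rcases hk1 with (h0 | h181) | ⟨wm, hwm, hw⟩
  · left
    apply fix_gens hF hP hR
    rw [hze]
    have hE : Ee e ∈ H1 := by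
      apply mem_H1 hEm
      apply Fin.ext
      change ((Ee e ⟨0, by norm_num⟩ : Fin 315) : Nat) = 0
      rw [hpt, h0]
    rw [Yy_comm hE]
    group
  · right
    have hconj : Tt * Yy * Tt⁻¹ = F Yy := by
      rw [hze]
      have h1 := t_conj
      rw [List.all_eq_true] at h1
      have h2 := h1 e he
      simp only [Bool.or_eq_true, Bool.not_eq_true', h181] at h2
      rcases h2 with h2 | h2
      · exact absurd h2 (by decide)
      · refine eq_of_allB (fun i => ?_) (fun i => fn_s he i) h2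
        rw [Equiv.Perm.mul_apply, Equiv.Perm.mul_apply, Tt_inv, ← fn_t, ← fn_y, ← fn_t]
    have hF' : PHom J315 (conjF Tt F) := hF.conj Tt_norm
    have hTP : Tt * Pp * Tt⁻¹ = Pp := by rw [Tt_Pp]; group
    have hTR : Tt * Rr * Tt⁻¹ = Rr := by rw [Tt_Rr]; group
    have := fix_gens hF' (by rw [conjF_apply, hP, hTP]) (by rw [conjF_apply, hR, hTR]) (by
      rw [conjF_apply, ← hconj, Tt_inv]
      calc Tt * (Tt * Yy * Tt) * Tt = (Tt * Tt) * Yy * (Tt * Tt) := by group
        _ = Yy := by rw [Tt_sq]; group)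
    intro x hx
    exact this x hx
  · exfalso
    have hf := kill_fwd
    rw [List.all_eq_true] at hf
    have hf1 := hf wm hwm
    have h1 : (wPerm Yy wm.1) ^ wm.2 = 1 :=
      powFix_one (wPerm_mem Yy_mem _) (fun i => wFn_eq fn_y _ i) hf1
    have h2 : (wPerm (F Yy) wm.1) ^ wm.2 = 1 := by
      rw [← map_wPerm hF hP hR Yy_mem, ← hF.map_pow (wPerm_mem Yy_mem _), h1, hF.map_one]
    have h3 := powFix_complete (c := wFn (sF e.u) wm.1) (fun i => by
      rw [hze]
      exact wFn_eq (fn_s he) _ i) h2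
    rw [hw] at h3
    exact absurd h3 (by decide)

/-! ### The centraliser of the element of order 7 -/

theorem no_order {x : Pm} (hx : x ∈ J315) (l : ℕ) (hl : l.Prime) (hl7 : l ≠ 7) : orderOf x ≠ 7 * l := by
  intro h
  have h1 := order_mem_spec_perm hx
  rw [h] at h1
  have h2 := hl.two_le
  have h3 : 7 * l ≤ 15 := by
    revert h1
    generalize 7 * l = m
    intro h1
    simp only [spec, Finset.mem_insert, Finset.mem_singleton] at h1
    omega
  have h4 : l = 2 := by omega
  subst h4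
  revert h1
  decide

instance fact7 : Fact (Nat.Prime 7) := ⟨by norm_num⟩

theorem hp2 : ¬ 7 ^ 2 ∣ Nat.card J315 := by
  rw [card_J315]
  norm_num

theorem hexp : ∀ k, ¬ 7 ∣ k → ∃ j, (k * 3 ^ j) % 7 = 1 := by
  intro k hk
  have h1 : k % 7 < 7 := Nat.mod_lt _ (by norm_num)
  have h2 : k % 7 ≠ 0 := fun h => hk (Nat.dvd_of_mod_eq_zero h)
  have key : ∀ j, (k * 3 ^ j) % 7 = ((k % 7) * (3 ^ j % 7)) % 7 := fun j => Nat.mul_mod _ _ _
  generalize hm : k % 7 = m at *
  interval_cases m
  · exact absurd rfl h2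
  · exact ⟨0, (key 0).trans (by norm_num)⟩
  · exact ⟨4, (key 4).trans (by norm_num)⟩
  · exact ⟨5, (key 5).trans (by norm_num)⟩
  · exact ⟨2, (key 2).trans (by norm_num)⟩
  · exact ⟨1, (key 1).trans (by norm_num)⟩
  · exact ⟨3, (key 3).trans (by norm_num)⟩

theorem hconj : ∀ x ∈ J315, x * Pp = Pp ^ 3 * x → ∃ c : ℕ, x = Pp ^ c * Rr * (Pp ^ c)⁻¹ :=
  hconj_of_centraliser (p := 7) (r := 3) (a := 2) Rr_mem Pp_pow Rr_rel
    (centraliser_eq_zpowers Pp_mem Pp_order hp2 (fun _ hx => no_order hx)) (by norm_num)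

/-! ### The outer automorphism -/

theorem center_eq_one {z : Pm} (hz : ∀ x ∈ J315, z * x = x * z) : z = 1 := by
  have hfix : ∀ h ∈ H1, h (z ⟨0, by norm_num⟩) = z ⟨0, by norm_num⟩ := by
    intro h hh
    have h1 := hz h (H1_le hh)
    have h2 : h ⟨0, by norm_num⟩ = ⟨0, by norm_num⟩ := next_fixes (level_of chain_ok) hc12 b0 h hh
    have h3 := congrArg (fun w : Pm => w ⟨0, by norm_num⟩) h1
    simp only [Equiv.Perm.mul_apply, h2] at h3
    exact h3.symm
  have hz0 : z ⟨0, by norm_num⟩ = ⟨0, by norm_num⟩ := by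
    have h1 := (allB_iff _ _).mp h1_fix _ (z ⟨0, by norm_num⟩).2
    simp only [Bool.or_eq_true, Nat.beq_eq, List.any_eq_true, Bool.not_eq_true'] at h1
    rcases h1 with h1 | ⟨g, hg, h1⟩
    · exact Fin.ext h1
    · exfalso
      have hv : validB 9 511 315 g = true := by
        have := lv1_facts.gens_valid
        rw [List.all_eq_true] at this
        exact this g hg
      have h2 := hfix (permOf 9 511 315 g) (Subgroup.subset_closure ⟨g, hg, rfl⟩)
      have h3 : ((permOf 9 511 315 g (z ⟨0, by norm_num⟩) : Fin 315) : Nat) = gt g (z ⟨0, by norm_num⟩) := permOf_apply hv _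
      rw [h2] at h3
      rw [← h3] at h1
      simp at h1
  ext i
  obtain ⟨g, hg⟩ := MulAction.exists_smul_eq J315 (⟨0, by norm_num⟩ : Fin 315) i
  have hg' : (g : Pm) ⟨0, by norm_num⟩ = i := hg
  have h1 := hz g g.2
  have h3 := congrArg (fun w : Pm => w ⟨0, by norm_num⟩) h1
  simp only [Equiv.Perm.mul_apply, hz0, hg'] at h3
  rw [h3]
  rfl

theorem not_inner : conjAut Tt Tt_norm Tt_norm' ∉ Inn J315 := by
  rintro ⟨h, hh⟩
  have hk : ∀ x (hx : x ∈ J315), (h : Pm) * x * (h : Pm)⁻¹ = Tt * x * Tt⁻¹ := by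
    intro x hx
    have := congrArg (fun ψ : MulAut J315 => ((ψ ⟨x, hx⟩ : J315) : Pm)) hh
    simpa [MulAut.conj_apply, conjAut] using this
  have hz := center_eq_one (z := (h : Pm)⁻¹ * Tt) (fun x hx => by
    have h1 := hk x hx
    have h2 : Tt * x = (Tt * x * Tt⁻¹) * Tt := by group
    rw [mul_assoc, h2, ← h1]
    group)
  apply Tt_not_mem
  have : Tt = h := by
    exact (inv_mul_eq_one.mp hz).symm
  rw [this]
  exact h.2

/-- The outer automorphism group of the group of the 315 lines. -/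
theorem card_out_J315 : Nat.card (Out J315) = 2 := by
  refine card_out_eq_two (conjAut Tt Tt_norm Tt_norm') not_inner fun φ => ?_
  rcases inner_or_twist_fix (π := Pp) (ρ := Rr) (τ := Tt) (p := 7) (r := 3) Tt_norm Pp_mem Rr_mem hp2 Pp_pow Pp_ne
    Rr_rel hexp hconj (fun F' hF' hP hR => fin_step hF' hP hR) (pHom_ofAut φ) with h | h
  · exact Or.inl (mem_inn_of_isInnerF h)
  · exact Or.inr (mem_inn_of_conj Tt Tt_norm Tt_norm' h)

/-- The outer automorphism group of the Hall-Janko group. -/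
theorem card_out_J2 : Nat.card (Out J2) = 2 := by
  rw [card_out_congr isoJ, card_out_J315]

end Cfsg.Agent.Lib.Sporadic.J2.Out
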